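import Groth.Agent.AbvarEmb.KvbSeries
import Groth.Agent.KTheory.KvbPull
import Groth.Agent.OmegaSheaf.GroupScheme
import Groth.Agent.OmegaSheaf.SectionConormal
import Groth.Agent.GrpschAbsch.SmoothField
import Groth.Agent.Duality.RestrictDual
import Groth.Agent.Duality.FundLocal.SmoothImm
import Groth.Agent.Duality.PnStalk
import Groth.Agent.PnEuler.Seq
import Groth.Agent.PnCoh.GlobalFun
import Groth.Agent.PnCoh.VanishingClosed
import Groth.Agent.PnCoh.Finite
import Groth.Agent.VarietyBC.Dim
import Groth.Agent.Variety2.DimScheme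
import Groth.Agent.Abvar.PicCalc
import Groth.Agent.Abvar.Rigidity
import Groth.Agent.LimitMod.LocFree

/-!
# The conormal class of an abelian variety in projective space

For a closed immersion of an abelian variety of dimension `g` into `P^n`, the conormal bundle `C` satisfies
`[C] + (g+1) = (n+1)[f^* O(-1)]` in `K₀`.
-/

set_option autoImplicit false
set_option linter.style.haveILetI false
universe u

open CategoryTheory CategoryTheory.Limits MonoidalCategory CartesianMonoidalCategory MonObj GrpObj AlgebraicGeometry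

attribute [local instance] HasFiniteBiproducts.of_hasFiniteProducts

noncomputable section

namespace Groth.AbvarEmb

open Groth.KTheory Groth.KTheory.LambdaVb Groth.LocFree

attribute [local instance] kvbRing

theorem sigma_fin_kcl {Z : Scheme.{u}} {L : Z.Modules} (hL : FlatMod.IsFinLocFreeOfRank 1 L) :
    ∀ m : ℕ, FlatMod.IsFinLocFreeOfRank m (∐ fun _ : Fin m => L) ∧
      kcl (∐ fun _ : Fin m => L) = m • kcl L
  | 0 => by
    have hz : IsZero (∐ fun _ : Fin 0 => L) :=
      (IsZero.iff_id_eq_zero _).2 (Sigma.hom_ext _ _ fun i => i.elim0)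
    refine ⟨isFinLocFreeOfRank_of_iso (hz.iso (KvbModel.isZero_of_rank_zero
      (isFinLocFreeOfRank_freeMod Z 0))).symm (isFinLocFreeOfRank_freeMod Z 0), ?_⟩
    rw [zero_smul, KvbModel.kcl_zero hz]
  | m + 1 => by
    obtain ⟨hr, hk⟩ := sigma_fin_kcl hL m
    let S : ShortComplex Z.Modules := ShortComplex.mk
      (Sigma.ι (fun _ : Fin (m + 1) => L) (Fin.last m) : L ⟶ ∐ fun _ : Fin (m + 1) => L)
      (Sigma.desc (Fin.lastCases (motive := fun _ => L ⟶ ∐ fun _ : Fin m => L) 0
        fun i => Sigma.ι (fun _ : Fin m => L) i)) (by simp)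
    have hS : S.ShortExact := ShortComplex.Splitting.shortExact
      { r := Sigma.desc (Fin.lastCases (motive := fun _ => L ⟶ L) (𝟙 L) fun _ => 0)
        s := Sigma.desc fun i => Sigma.ι (fun _ : Fin (m + 1) => L) i.castSucc
        f_r := by simp [S]
        s_g := Sigma.hom_ext _ _ fun i => by simp [S]
        id := Sigma.hom_ext _ _ fun i => by
          induction i using Fin.lastCases with
          | last => simp [S]
          | cast k => simp [S] }
    have h2 := isFinLocFreeOfRank_of_shortExact hS hL hr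
    rw [Nat.add_comm 1 m] at h2
    refine ⟨h2, ?_⟩
    rw [succ_nsmul, ← hk, add_comm (kcl _)]
    exact clSub_rel (P := fun M : Z.Modules => FlatMod.IsFinLocFree M) S hS
      (isFinLocFree_of_rank hL) (isFinLocFree_of_rank h2) (isFinLocFree_of_rank hr)

/-- A bundle of rank `m` on a one-point scheme has free pullbacks. -/
theorem nonempty_pullback_iso_freeMod {Z S : Scheme.{u}} [Subsingleton S] [hne : Nonempty S]
    (p : Z ⟶ S) {N : S.Modules} {m : ℕ} (hN : FlatMod.IsFinLocFreeOfRank m N) :
    Nonempty ((Scheme.Modules.pullback p).obj N ≅ FlatMod.freeMod Z m) := by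
  obtain ⟨s⟩ := hne
  obtain ⟨U, hs, ⟨e⟩⟩ := hN s
  obtain rfl : U = ⊤ := eq_top_iff.2 fun t _ => (Subsingleton.elim s t) ▸ hs
  let q : Z ⟶ (⊤ : S.Opens) := p ≫ S.topIso.inv
  have hq : q ≫ (⊤ : S.Opens).ι = p := by simp [q]
  exact ⟨((Scheme.Modules.pullbackCongr hq).app N).symm ≪≫
    ((Scheme.Modules.pullbackComp q (⊤ : S.Opens).ι).app N).symm ≪≫
    (Scheme.Modules.pullback q).mapIso
      (((Scheme.Modules.restrictFunctorIsoPullback (⊤ : S.Opens).ι).app N).symm ≪≫ e) ≪≫
    (Groth.LimitMod.nonempty_pullback_freeMod q m).some⟩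

variable {k : Type u} [Field k] (X : Over (Spec (CommRingCat.of k))) [GrpObj X] [IsProper X.hom]
  [GeometricallyIntegral X.hom]

theorem smooth_hom : Smooth X.hom := by
  have : GeometricallyReduced X.hom := inferInstance
  let : GrpObj (Over.mk X.hom) := ‹GrpObj X›
  exact smooth_of_grpObj X.hom

variable {g : ℕ} (hg : topologicalKrullDim ↥X.left = g)

include hg in
theorem isFinLocFreeOfRank_omega : FlatMod.IsFinLocFreeOfRank g (Omega.sheaf X.hom) := by
  have := smooth_hom X
  have := Groth.Abvar.isIntegral_left X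
  let : X.left.Over (Spec (CommRingCat.of k)) := ⟨X.hom⟩
  haveI : Smooth (X.left ↘ Spec (CommRingCat.of k)) := inferInstanceAs (Smooth X.hom)
  refine Groth.Duality.RestrictDual.isFinLocFreeOfRank_omega X.hom g fun x => ?_
  refine le_antisymm ((Groth.SpectralTopology.localDim_le_dim x).trans hg.le) ?_
  rw [Groth.VarietyBC.localDim_eq_height_add k x, ringKrullDim_stalk_eq_coheight,
    ← WithBot.coe_add, ← hg, Groth.Variety2.Dim.dim_eq_iSup_height]
  refine iSup_le fun z => WithBot.coe_le_coe.2 ?_
  refine le_trans (Order.height_mono ?_)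
    (Groth.VarietyBC.height_le_add_coheight k (b := x) («η» := genericPoint X.left) ?_)
  · exact Scheme.le_iff_specializes.2 (genericPoint_specializes z)
  · exact Scheme.le_iff_specializes.2 (genericPoint_specializes x)

include hg in
/-- The differentials of an abelian variety are free. -/
theorem kcl_omega : kcl (Omega.sheaf X.hom) = g • (1 : SGA6.Kvb X.left) := by
  have : Subsingleton (Spec (CommRingCat.of k)) := inferInstanceAs (Subsingleton (PrimeSpectrum k))
  have : Nonempty (Spec (CommRingCat.of k)) := inferInstanceAs (Nonempty (PrimeSpectrum k))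
  have hr := isFinLocFreeOfRank_omega X hg
  obtain ⟨i⟩ := Groth.OmegaSheaf.nonempty_sheaf_iso_pullback_unit X
  obtain ⟨j⟩ := Groth.OmegaSheaf.nonempty_conormal_iso_of_section X.hom η[X].left (Over.w η[X])
  obtain ⟨e⟩ := nonempty_pullback_iso_freeMod X.hom
    (isFinLocFreeOfRank_of_iso j.symm (isFinLocFreeOfRank_pullback η[X].left hr))
  obtain ⟨-, h⟩ := sigma_fin_kcl (isFinLocFreeOfRank_unit X.left) g
  rw [kcl_iso (i ≪≫ e) (isFinLocFree_of_rank hr)]
  exact h

open Twist in
include hg in
/-- The conormal class. -/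
theorem exists_conormal_class (n : ℕ) (f : X.left ⟶ CohB1.ProjSpace n k) [IsClosedImmersion f]
    (hf : f ≫ CohB1.ProjSpace.toSpec n k = X.hom) :
    ∃ (C : X.left.Modules) (r : ℕ), FlatMod.IsFinLocFreeOfRank r C ∧ r + g = n ∧
      kcl C + (g + 1) • (1 : SGA6.Kvb X.left) =
        (n + 1) • kcl ((Scheme.Modules.pullback f).obj (Twist.twistProjSpace n k (-1))) := by
  have := smooth_hom X
  have := Groth.Duality.Pn.smooth_toSpec (n := n) (k := k)
  have : IsLocallyNoetherian (CohB1.ProjSpace n k) := Groth.PnCoh.isLocallyNoetherian_projSpace n k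
  have := Groth.Abvar.isIntegral_left X
  let P := CohB1.ProjSpace n k
  let O1 := Twist.twistProjSpace n k (-1)
  have hO1 : FlatMod.IsFinLocFreeOfRank 1 O1 :=
    isInvertible_iff_ofRank_one.1 (Groth.PnCoh.isInvertible_twist n k (-1))
  have hO0 : FlatMod.IsFinLocFreeOfRank 1 (Twist.twistProjSpace n k 0) :=
    isFinLocFreeOfRank_of_iso (Groth.PnCoh.nonempty_twist_zero_iso (CohB1.polyGrading n k)).some.symm
      (isFinLocFreeOfRank_unit _)
  obtain ⟨hsr, -⟩ := sigma_fin_kcl hO1 (n + 1)
  have hmid : FlatMod.IsFinLocFreeOfRank (n + 1) (Groth.PnEuler.mid n k) :=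
    isFinLocFreeOfRank_of_iso (biproduct.isoCoproduct _).symm hsr
  have hE := Groth.PnEuler.shortExact_eulerSeq (n := n) (R := k)
  have hΩ : FlatMod.IsFinLocFreeOfRank n (Omega.sheaf (CohB1.ProjSpace.toSpec n k)) :=
    isFinLocFreeOfRank_left hE (b := 1) hmid hO0
  have hX := isFinLocFreeOfRank_omega X hg
  obtain ⟨hC, hle⟩ := Groth.Duality.FundLocal.isFinLocFreeOfRank_conormal
    (CohB1.ProjSpace.toSpec n k) X.hom f n g hΩ hX hf
  have hgn : g ≤ n := hle (genericPoint X.left) ⟨genericPoint X.left⟩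
  refine ⟨Omega.conormal f, n - g, hC, by omega, ?_⟩
  have hΩv := isFinLocFree_of_rank hΩ
  have hmv := isFinLocFree_of_rank hmid
  have h0v := isFinLocFree_of_rank hO0
  -- the pulled back Euler sequence
  have h1 := clSub_rel (P := fun M : X.left.Modules => FlatMod.IsFinLocFree M) _
    (KvbPull.shortExact_pullback f hE hΩv hmv h0v) (isFinLocFree_pullback f hΩv)
    (isFinLocFree_pullback f hmv) (isFinLocFree_pullback f h0v)
  change kcl ((Scheme.Modules.pullback f).obj (Groth.PnEuler.mid n k)) =
    kcl ((Scheme.Modules.pullback f).obj (Omega.sheaf (CohB1.ProjSpace.toSpec n k))) +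
      kcl ((Scheme.Modules.pullback f).obj (Twist.twistProjSpace n k 0)) at h1
  -- the conormal sequence
  obtain ⟨φ, c, w, hS⟩ := Groth.Duality.FundLocal.exists_conormal_ses
    (CohB1.ProjSpace.toSpec n k) X.hom f hf
  have h2 := clSub_rel (P := fun M : X.left.Modules => FlatMod.IsFinLocFree M) _ hS
    (isFinLocFree_of_rank hC) (isFinLocFree_pullback f hΩv) (isFinLocFree_of_rank hX)
  change kcl ((Scheme.Modules.pullback f).obj (Omega.sheaf (CohB1.ProjSpace.toSpec n k))) =
    kcl (Omega.conormal f) + kcl (Omega.sheaf X.hom) at h2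
  -- the outer terms
  have h3 : kcl ((Scheme.Modules.pullback f).obj (Twist.twistProjSpace n k 0)) =
      (1 : SGA6.Kvb X.left) :=
    kcl_iso ((Scheme.Modules.pullback f).mapIso
      (Groth.PnCoh.nonempty_twist_zero_iso (CohB1.polyGrading n k)).some ≪≫
      @asIso _ _ _ _ (Groth.PicAux.pullUnit f) (Groth.PicAux.isIso_pullUnit f)) (isFinLocFree_pullback f h0v)
  have : PreservesColimitsOfSize.{0, 0} (Scheme.Modules.pullback f) :=
    (Scheme.Modules.pullbackPushforwardAdjunction f).leftAdjoint_preservesColimits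
  obtain ⟨-, h4⟩ := sigma_fin_kcl (isFinLocFreeOfRank_pullback f hO1) (n + 1)
  have h5 : kcl ((Scheme.Modules.pullback f).obj (Groth.PnEuler.mid n k)) =
      (n + 1) • kcl ((Scheme.Modules.pullback f).obj O1) :=
    (kcl_iso ((Scheme.Modules.pullback f).mapIso (biproduct.isoCoproduct _) ≪≫
      PreservesCoproduct.iso _ _) (isFinLocFree_pullback f hmv)).trans h4
  rw [← h5, h1, h2, h3, kcl_omega X hg, succ_nsmul, add_assoc]

end Groth.AbvarEmb
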