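import Groth.Agent.KTheory.LambdaVb
import Groth.Agent.KTheory.KvbModel
import Groth.Agent.LocFree.SES
import Groth.Agent.PicAux.InverseInvertible
import Groth.Agent.Misc13.KInt
import Mathlib.RingTheory.PowerSeries.Trunc

/-!
# The series of exterior powers on `K₀` of bundles

`series E = ∑ [Λ^i E] t^i` is multiplicative in short exact sequences. We record the consequence for a bundle `C` with
`[C] + (g+1) = (n+1) [M]` for a line bundle `M`: certain multiples of `([O] - [M])^g` vanish.
-/

set_option autoImplicit false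
universe u

open CategoryTheory CategoryTheory.Limits AlgebraicGeometry Polynomial

noncomputable section

namespace Groth.AbvarEmb

/-- The purely algebraic step. -/
theorem choose_mul_one_sub_pow_eq_zero {R : Type*} [CommRing R] (P : R[X]) (M : R) {g n i : ℕ}
    (h : P * (1 + X) ^ (g + 1) = (1 + C M * X) ^ (n + 1)) (hi : i ≤ g) :
    M ^ i * (1 - M) ^ (n + 1 - i) * ((n + 1).choose i : R) = 0 := by
  have h' := congrArg (fun p : R[X] => p.comp (X - 1)) h
  simp only [mul_comp, pow_comp, add_comp, one_comp, C_comp, X_comp, add_sub_cancel] at h'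
  rw [show 1 + C M * (X - 1) = C M * X + C (1 - M) by rw [C_sub, C_1]; ring] at h'
  have hc := congrArg (fun p : R[X] => p.coeff i) h'
  simp only [coeff_mul_X_pow', if_neg (show ¬ (g + 1 ≤ i) by omega)] at hc
  rw [add_pow, finset_sum_coeff] at hc
  rw [hc]
  by_cases hin : i ≤ n + 1
  · rw [Finset.sum_eq_single i]
    · rw [mul_pow, ← C_pow, ← C_pow, ← Polynomial.C_eq_natCast]
      rw [show C (M ^ i) * X ^ i * C ((1 - M) ^ (n + 1 - i)) * C ((((n + 1).choose i : ℕ)) : R)
          = C (M ^ i * (1 - M) ^ (n + 1 - i) * ((n + 1).choose i : R)) * X ^ i by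
        simp only [C_mul]; ring]
      rw [coeff_C_mul_X_pow, if_pos rfl]
    · intro j _ hj
      rw [mul_pow, ← C_pow, ← C_pow, ← Polynomial.C_eq_natCast]
      rw [show C (M ^ j) * X ^ j * C ((1 - M) ^ (n + 1 - j)) * C ((((n + 1).choose j : ℕ)) : R)
          = C (M ^ j * (1 - M) ^ (n + 1 - j) * ((n + 1).choose j : R)) * X ^ j by
        simp only [C_mul]; ring]
      rw [coeff_C_mul_X_pow, if_neg (Ne.symm hj)]
    · intro hni
      exact absurd (Finset.mem_range.2 (by omega)) hni
  · rw [Nat.choose_eq_zero_of_lt (by omega)]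
    simp only [Nat.cast_zero, mul_zero]
    refine (Finset.sum_eq_zero fun j hj => ?_).symm
    rw [mul_pow, ← C_pow, ← C_pow, ← Polynomial.C_eq_natCast]
    rw [show C (M ^ j) * X ^ j * C ((1 - M) ^ (n + 1 - j)) * C ((((n + 1).choose j : ℕ)) : R)
        = C (M ^ j * (1 - M) ^ (n + 1 - j) * ((n + 1).choose j : R)) * X ^ j by
      simp only [C_mul]; ring]
    rw [coeff_C_mul_X_pow, if_neg]
    have := Finset.mem_range.1 hj
    omega

open Groth.KTheory Groth.KTheory.LambdaVb Groth.LocFree

variable {Z : Scheme.{u}}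

local notation "VB" => (fun M : Z.Modules => FlatMod.IsFinLocFree M)

open Groth.PicAux in
/-- The series of exterior powers. -/
def series (E : Z.Modules) : PowerSeries (SGA6.Kvb Z) :=
  PowerSeries.mk fun i => kcl (Groth.LocFree.extPow i E)

attribute [local instance] kvbRing

theorem coeff_zero_series {E : Z.Modules} (hE : FlatMod.IsFinLocFree E) :
    kcl (Groth.LocFree.extPow 0 E) = (1 : SGA6.Kvb Z) :=
  haveI := KTheory.LocFree.isQCoh hE
  kcl_iso (nonempty_extPow_zero E).some (isFinLocFree_extPow hE 0)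

theorem isUnit_series {E : Z.Modules} (hE : FlatMod.IsFinLocFree E) : IsUnit (series E) := by
  rw [PowerSeries.isUnit_iff_constantCoeff, ← PowerSeries.coeff_zero_eq_constantCoeff_apply,
    series, PowerSeries.coeff_mk, coeff_zero_series hE]
  exact isUnit_one

open Classical in
/-- The series on `K₀`, as a homomorphism to units. -/
def seriesHom : SGA6.Kvb Z →+ Additive (PowerSeries (SGA6.Kvb Z))ˣ :=
  liftSub VB (fun E => if h : IsUnit (series E) then Additive.ofMul h.unit else 0) (by
    intro S hS h₁ h₂ h₃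
    rw [dif_pos (isUnit_series h₁), dif_pos (isUnit_series h₂), dif_pos (isUnit_series h₃),
      ← ofMul_mul]
    refine congrArg Additive.ofMul (Units.ext ?_)
    rw [Units.val_mul, IsUnit.unit_spec, IsUnit.unit_spec, IsUnit.unit_spec]
    ext k
    rw [PowerSeries.coeff_mul, Finset.Nat.sum_antidiagonal_eq_sum_range_succ_mk]
    simp only [series, PowerSeries.coeff_mk]
    refine (ExtFilt.clSub_extPow_extension S hS h₁ h₂ h₃ k).trans (Finset.sum_congr rfl fun i _ => ?_)
    exact (mulHom_kcl (isFinLocFree_extPow h₁ i) (isFinLocFree_extPow h₃ (k - i))).symm)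

/-- The underlying series. -/
def ser (x : SGA6.Kvb Z) : PowerSeries (SGA6.Kvb Z) :=
  ((Additive.toMul (seriesHom x) : (PowerSeries (SGA6.Kvb Z))ˣ) : PowerSeries (SGA6.Kvb Z))

theorem ser_kcl {E : Z.Modules} (hE : FlatMod.IsFinLocFree E) : ser (kcl E) = series E := by
  simp [ser, seriesHom, kcl, liftSub_clSub (P := VB) _ _ hE, dif_pos (isUnit_series hE)]

theorem ser_add (x y : SGA6.Kvb Z) : ser (x + y) = ser x * ser y := by
  simp [ser, map_add, toMul_add]

theorem ser_nsmul (m : ℕ) (x : SGA6.Kvb Z) : ser (m • x) = ser x ^ m := by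
  simp only [ser, map_nsmul, toMul_nsmul, Units.val_pow_eq_pow_val]

theorem kcl_extPow_eq_zero {E : Z.Modules} {r i : ℕ} (hE : FlatMod.IsFinLocFreeOfRank r E)
    (hi : r < i) : kcl (Groth.LocFree.extPow i E) = 0 := by
  refine KvbModel.kcl_zero (KvbModel.isZero_of_rank_zero ?_)
  simpa [Nat.choose_eq_zero_of_lt hi] using isFinLocFreeOfRank_extPow hE i

theorem ser_line {L : Z.Modules} (hL : FlatMod.IsFinLocFreeOfRank 1 L) :
    ser (kcl L) = (((1 : (SGA6.Kvb Z)[X]) + C (kcl L) * X : (SGA6.Kvb Z)[X]) : PowerSeries (SGA6.Kvb Z)) := by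
  have hv := isFinLocFree_of_rank hL
  have := KTheory.LocFree.isQCoh hv
  rw [ser_kcl hv]
  ext i
  rw [series, PowerSeries.coeff_mk, Polynomial.coeff_coe, Polynomial.coeff_add, coeff_C_mul,
    Polynomial.coeff_one, Polynomial.coeff_X]
  match i with
  | 0 => simp [coeff_zero_series hv]
  | 1 => simpa using kcl_iso (nonempty_extPow_one L).some (isFinLocFree_extPow hv 1)
  | j + 2 => simp [kcl_extPow_eq_zero hL (show 1 < j + 2 by omega)]

/-- If a bundle `C` has class `(n+1)[M] - (g+1)[O]`, then `binom(n+1,i) [M]^i (1-[M])^{n+1-i} = 0` for `i ≤ g`. -/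
theorem choose_mul_eq_zero {E M : Z.Modules} {r g n i : ℕ} (hE : FlatMod.IsFinLocFreeOfRank r E)
    (hM : FlatMod.IsFinLocFreeOfRank 1 M)
    (h : kcl E + (g + 1) • (1 : SGA6.Kvb Z) = (n + 1) • kcl M) (hi : i ≤ g) :
    (kcl M) ^ i * (1 - kcl M) ^ (n + 1 - i) * ((n + 1).choose i : SGA6.Kvb Z) = 0 := by
  refine choose_mul_one_sub_pow_eq_zero (PowerSeries.trunc (r + 1) (series E)) (kcl M) ?_ hi
  apply Polynomial.coe_inj.1
  have hone : ser (1 : SGA6.Kvb Z) = (((1 : (SGA6.Kvb Z)[X]) + X : (SGA6.Kvb Z)[X]) : PowerSeries (SGA6.Kvb Z)) := by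
    have h1 := ser_line (isFinLocFreeOfRank_unit Z)
    rw [show kcl (Coh.structureModule Z) = (1 : SGA6.Kvb Z) from rfl, map_one, one_mul] at h1
    exact h1
  have htr : ((PowerSeries.trunc (r + 1) (series E) : (SGA6.Kvb Z)[X]) : PowerSeries (SGA6.Kvb Z)) =
      series E := by
    ext j
    rw [Polynomial.coeff_coe, PowerSeries.coeff_trunc]
    split_ifs with hj
    · rfl
    · rw [series, PowerSeries.coeff_mk, kcl_extPow_eq_zero hE (by omega)]
  have h2 := congrArg ser h
  rw [ser_add, ser_nsmul, ser_nsmul, hone, ser_line hM, ser_kcl (isFinLocFree_of_rank hE)] at h2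
  rw [Polynomial.coe_mul, Polynomial.coe_pow, Polynomial.coe_pow, htr]
  exact h2

theorem kcl_tensorMod {E F : Z.Modules} (hE : FlatMod.IsFinLocFree E) (hF : FlatMod.IsFinLocFree F) :
    kcl (CohB1.tensorMod E F) = kcl E * kcl F := (mulHom_kcl hE hF).symm

theorem isFinLocFree_of_invertible {L : Z.Modules} (hL : PicF.IsInvertible L) : FlatMod.IsFinLocFree L :=
  isFinLocFree_of_rank (isInvertible_iff_ofRank_one.1 hL)

theorem kcl_tensorPow {L : Z.Modules} (hL : PicF.IsInvertible L) :
    ∀ m : ℕ, kcl (CohB1.tensorPow L m) = kcl L ^ m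
  | 0 => by
    rw [pow_zero]
    rfl
  | m + 1 => by
    rw [pow_succ, ← kcl_tensorPow hL m]
    exact kcl_tensorMod (isFinLocFree_of_invertible (Groth.PicAux.isInvertible_tensorPow hL m))
      (isFinLocFree_of_invertible hL)

theorem isInvertible_list : ∀ {l : List Z.Modules}, (∀ M ∈ l, PicF.IsInvertible M) →
    PicF.IsInvertible (FGA.tensorList l)
  | [], _ => isInvertible_iff_ofRank_one.2 (isFinLocFreeOfRank_unit Z)
  | M :: _, h => Groth.PicAux.isInvertible_tensorMod (h M (List.mem_cons_self ..))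
      (isInvertible_list fun N hN => h N (List.mem_cons_of_mem _ hN))

theorem kcl_tensorList : ∀ {l : List Z.Modules}, (∀ M ∈ l, PicF.IsInvertible M) →
    kcl (FGA.tensorList l) = (l.map kcl).prod
  | [], _ => rfl
  | M :: l, h => by
    rw [List.map_cons, List.prod_cons, ← kcl_tensorList fun N hN => h N (List.mem_cons_of_mem _ hN)]
    exact kcl_tensorMod (isFinLocFree_of_invertible (h M (List.mem_cons_self ..)))
      (isFinLocFree_of_invertible (isInvertible_list
        fun N hN => h N (List.mem_cons_of_mem _ hN)))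

section Chi

variable (k : Type u) [Field k] [Z.Over (Spec (CommRingCat.of k))]
  [IsProper (Z ↘ Spec (CommRingCat.of k))] [AlgebraicGeometry.IsNoetherian Z]
  {d : ℕ} (hd : topologicalKrullDim Z ≤ (d : ℕ))

/-- The Euler characteristic on `K₀` of bundles. -/
def chiVb : SGA6.Kvb Z →+ ℤ :=
  liftSub VB (fun G => FGA.eulerCharLE k Z G d) fun S hS h₁ _ h₃ =>
    Groth.Misc13.KInt.eulerCharLE_add k hd S hS (KTheory.LocFree.isCoh h₁) (KTheory.LocFree.isCoh h₃)

theorem chiVb_kcl {E : Z.Modules} (hE : FlatMod.IsFinLocFree E) :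
    chiVb k hd (kcl E) = FGA.eulerCharLE k Z E d := liftSub_clSub _ _ hE

/-- The self-intersection number through the class in `K₀`. -/
theorem intNum_eq_chiVb {M : Z.Modules} (hM : PicF.IsInvertible M) (g : ℕ) :
    FGA.intNum k Z d (fun _ : Fin g => M) (Coh.structureModule Z) =
      chiVb k hd ((1 - kcl M) ^ g) := by
  classical
  rw [show (1 : SGA6.Kvb Z) - kcl M = -kcl M + 1 by ring,
    show (-kcl M + 1) ^ g = (-kcl M + 1) ^ Fintype.card (Fin g) by rw [Fintype.card_fin],
    ← Fintype.sum_pow_mul_eq_add_pow (Fin g), map_sum]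
  unfold FGA.intNum
  refine Finset.sum_congr rfl fun I _ => ?_
  have hl : ∀ N ∈ (I.sort (· ≤ ·)).map (fun _ : Fin g => M), PicF.IsInvertible N := by
    intro N hN
    obtain ⟨_, _, rfl⟩ := List.mem_map.1 hN
    exact hM
  have hv := isFinLocFree_of_invertible (isInvertible_list hl)
  rw [← chiVb_kcl k hd (isFinLocFree_tensorMod hv (isFinLocFree_unit Z)),
    kcl_tensorMod hv (isFinLocFree_unit Z), kcl_tensorList hl,
    show kcl (Coh.structureModule Z) = (1 : SGA6.Kvb Z) from rfl]
  simp only [List.map_map, Function.comp_def, List.map_const', List.prod_replicate, Finset.length_sort,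
    one_pow, mul_one]
  rw [← smul_eq_mul, ← map_zsmul (chiVb k hd)]
  refine congrArg _ ?_
  rw [zsmul_eq_mul, Int.cast_pow, Int.cast_neg, Int.cast_one, List.map_replicate, List.prod_replicate, ← neg_pow]

end Chi

end Groth.AbvarEmb
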